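import Groth.Agent.EtPtsLib.IntegralUI
import Groth.Agent.EtPtsLib.FiniteStalk
/-!
Every point of the small étale site is given by a geometric point.
-/

set_option autoImplicit false
set_option backward.isDefEq.respectTransparency false
set_option backward.isDefEq.respectTransparency.types false

universe u

open CategoryTheory CategoryTheory.Limits AlgebraicGeometry Opposite GrothendieckTopology

namespace Groth.Agent.EtPointClass

open EtPtsLib

theorem lqf_of_etale {X Y : Scheme.{u}} (g : X ⟶ Y) [AlgebraicGeometry.Etale g] : LocallyQuasiFinite g := by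
  rw [HasRingHomProperty.iff_appLE (P := @LocallyQuasiFinite)]
  intro U V e
  algebraize [(g.appLE U V e).hom]
  haveI : Algebra.Etale Γ(Y, U) Γ(X, V) :=
    RingHom.etale_algebraMap.mp (g.etale_appLE U.2 V.2 e)
  exact RingHom.quasiFinite_algebraMap.mpr inferInstance

variable {S : Scheme.{u}} (p : GrothendieckTopology.Point.{u} S.smallEtaleTopology)

/-- An open of an étale scheme. -/
noncomputable def sub (U : S.Etale) (V : U.left.Opens) : S.Etale :=
  haveI : AlgebraicGeometry.Etale U.hom := U.prop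
  haveI : AlgebraicGeometry.Etale (V.ι ≫ U.hom) := inferInstance
  Scheme.Etale.mk (V.ι ≫ U.hom)

/-- The inclusion of an open. -/
noncomputable def incl (U : S.Etale) (V : U.left.Opens) : sub U V ⟶ U :=
  MorphismProperty.Over.homMk V.ι rfl

/-- A map factoring through an open. -/
noncomputable def factor {W U : S.Etale} (g : W ⟶ U) (V : U.left.Opens) (h : Set.range g.left ⊆ V) : W ⟶ sub U V :=
  MorphismProperty.Over.homMk (IsOpenImmersion.lift V.ι g.left (h.trans (Scheme.Opens.range_ι V).symm.subset)) (by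
    show IsOpenImmersion.lift V.ι g.left _ ≫ V.ι ≫ U.hom = W.hom
    rw [IsOpenImmersion.lift_fac_assoc]
    exact MorphismProperty.Over.w g)

theorem factor_incl {W U : S.Etale} (g : W ⟶ U) (V : U.left.Opens) (h : Set.range g.left ⊆ V) :
    factor g V h ≫ incl U V = g :=
  MorphismProperty.Over.Hom.ext (IsOpenImmersion.lift_fac _ _ _)

/-- The element of the fibre comes from the open. -/
def Mem {U : S.Etale} (x : p.fiber.obj U) (V : U.left.Opens) : Prop :=
  ∃ v, p.fiber.map (incl U V) v = x

theorem mem_of_map_eq {U W : S.Etale} {x : p.fiber.obj U} (g : W ⟶ U) (w : p.fiber.obj W)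
    (e : p.fiber.map g w = x) (V : U.left.Opens) (h : Set.range g.left ⊆ V) : Mem p x V :=
  ⟨p.fiber.map (factor g V h) w, by rw [← types_comp_apply (p.fiber.map _) (p.fiber.map _), ← Functor.map_comp, factor_incl, e]⟩

theorem map_comp_apply {A B C : S.Etale} (f : A ⟶ B) (g : B ⟶ C) (a : p.fiber.obj A) :
    p.fiber.map (f ≫ g) a = p.fiber.map g (p.fiber.map f a) := by
  rw [Functor.map_comp]; rfl

/-- A common refinement of two elements. -/
theorem exists_common {A B : S.Etale} (a : p.fiber.obj A) (b : p.fiber.obj B) :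
    ∃ (W : S.Etale) (w : p.fiber.obj W) (f : W ⟶ A) (g : W ⟶ B), p.fiber.map f w = a ∧ p.fiber.map g w = b := by
  haveI := p.isCofiltered
  let j := IsCofiltered.min (p.fiber.elementsMk A a) (p.fiber.elementsMk B b)
  exact ⟨j.1, j.2, (IsCofiltered.minToLeft (p.fiber.elementsMk A a) (p.fiber.elementsMk B b)).1, (IsCofiltered.minToRight (p.fiber.elementsMk A a) (p.fiber.elementsMk B b)).1,
    (IsCofiltered.minToLeft (p.fiber.elementsMk A a) (p.fiber.elementsMk B b)).2,
    (IsCofiltered.minToRight (p.fiber.elementsMk A a) (p.fiber.elementsMk B b)).2⟩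

/-- A common refinement over a third object. -/
theorem exists_common_over {A B C : S.Etale} (f : A ⟶ C) (g : B ⟶ C) (a : p.fiber.obj A) (b : p.fiber.obj B)
    (h : p.fiber.map f a = p.fiber.map g b) :
    ∃ (W : S.Etale) (w : p.fiber.obj W) (f' : W ⟶ A) (g' : W ⟶ B),
      p.fiber.map f' w = a ∧ p.fiber.map g' w = b ∧ f' ≫ f = g' ≫ g := by
  haveI := p.isCofiltered
  obtain ⟨W, w, f', g', hf, hg⟩ := exists_common p a b
  let k₁ : p.fiber.elementsMk W w ⟶ p.fiber.elementsMk C (p.fiber.map f a) :=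
    ⟨f' ≫ f, by show p.fiber.map (f' ≫ f) w = p.fiber.map f a; rw [map_comp_apply, hf]⟩
  let k₂ : p.fiber.elementsMk W w ⟶ p.fiber.elementsMk C (p.fiber.map f a) :=
    ⟨g' ≫ g, by show p.fiber.map (g' ≫ g) w = p.fiber.map f a; rw [map_comp_apply, hg, h]⟩
  let e := IsCofiltered.eqHom k₁ k₂
  have he : e.1 ≫ f' ≫ f = e.1 ≫ g' ≫ g := congrArg (fun k => k.1) (IsCofiltered.eq_condition k₁ k₂)
  refine ⟨_, (IsCofiltered.eq k₁ k₂).2, e.1 ≫ f', e.1 ≫ g', ?_, ?_, by simpa using he⟩
  · rw [map_comp_apply, show p.fiber.map e.1 (IsCofiltered.eq k₁ k₂).2 = w from e.2, hf]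
  · rw [map_comp_apply, show p.fiber.map e.1 (IsCofiltered.eq k₁ k₂).2 = w from e.2, hg]

/-- Morphisms with equal values at an element agree on a refinement. -/
theorem subsingleton_top (a b : p.fiber.obj (EtCoh.top S)) : a = b := by
  obtain ⟨W, w, f, g, rfl, rfl⟩ := exists_common p a b
  have : f = g := MorphismProperty.Over.Hom.ext (by
    have hf := MorphismProperty.Over.w f; have hg := MorphismProperty.Over.w g
    change f.left ≫ 𝟙 S = W.hom at hf; change g.left ≫ 𝟙 S = W.hom at hg
    exact ((Category.comp_id f.left).symm.trans hf).trans ((Category.comp_id g.left).symm.trans hg).symm)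
  rw [this]

theorem mem_mono {U : S.Etale} {x : p.fiber.obj U} {V V' : U.left.Opens} (h : Mem p x V) (hle : V ≤ V') :
    Mem p x V' := by
  obtain ⟨v, hv⟩ := h
  exact mem_of_map_eq p (incl U V) v hv V' (by
    show Set.range V.ι ⊆ _
    rw [Scheme.Opens.range_ι]; exact hle)

theorem mem_inf {U : S.Etale} {x : p.fiber.obj U} {V V' : U.left.Opens} (h : Mem p x V) (h' : Mem p x V') :
    Mem p x (V ⊓ V') := by
  obtain ⟨v, hv⟩ := h
  obtain ⟨v', hv'⟩ := h'
  obtain ⟨W, w, f, g, hf, hg, hfg⟩ := exists_common_over p (incl U V) (incl U V') v v' (hv.trans hv'.symm)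
  refine mem_of_map_eq p (f ≫ incl U V) w (by rw [map_comp_apply, hf, hv]) _ ?_
  rintro _ ⟨z, rfl⟩
  refine ⟨(f.left z).2, ?_⟩
  rw [hfg]
  exact (g.left z).2

theorem mem_top {U : S.Etale} (x : p.fiber.obj U) : Mem p x ⊤ :=
  mem_of_map_eq p (𝟙 U) x (by rw [CategoryTheory.Functor.map_id]; rfl) ⊤ (fun _ _ => trivial)

theorem exists_mem_of_iSup {U : S.Etale} {x : p.fiber.obj U} {ι : Type (u + 1)} (V : ι → U.left.Opens)
    (h : Mem p x (iSup V)) : ∃ i, Mem p x (V i) := by
  obtain ⟨v, hv⟩ := h
  let T : ι → S.Etale := fun i => sub U (V i)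
  let π : ∀ i, T i ⟶ sub U (iSup V) := fun i => factor (incl U (V i)) (iSup V) (by
    show Set.range (V i).ι ⊆ _
    rw [Scheme.Opens.range_ι]; exact le_iSup V i)
  have hc : Sieve.ofArrows T π ∈ S.smallEtaleTopology (sub U (iSup V)) := by
    rw [Scheme.ofArrows_mem_smallEtaleTopology_iff]
    refine Set.eq_univ_of_forall fun z => ?_
    obtain ⟨i, hi⟩ := TopologicalSpace.Opens.mem_iSup.1 (show (iSup V).ι z ∈ iSup V from z.2)
    refine Set.mem_iUnion.2 ⟨i, (⟨_, hi⟩ : (V i).toScheme), (iSup V).ι.isOpenEmbedding.injective ?_⟩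
    exact congrArg (fun q => q.left (⟨_, hi⟩ : (V i).toScheme)) (factor_incl (incl U (V i)) (iSup V) _)
  obtain ⟨Y, f, hf, y, hy⟩ := p.jointly_surjective _ hc v
  obtain ⟨_, a, _, ⟨i⟩, rfl⟩ := hf
  refine ⟨i, mem_of_map_eq p (a ≫ incl U (V i)) y ?_ _ ?_⟩
  · rw [map_comp_apply] at hy
    rw [map_comp_apply, ← hv, ← hy, ← map_comp_apply p _ (incl U (iSup V)), factor_incl]
  · rintro _ ⟨z, rfl⟩
    exact (a.left z).2

theorem exists_pt {U : S.Etale} (x : p.fiber.obj U) : ∃ u : U.left, ∀ V : U.left.Opens, u ∈ V ↔ Mem p x V := by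
  let ι : Type (u + 1) := ULift.{u + 1} {V : U.left.Opens // ¬ Mem p x V}
  let W : U.left.Opens := iSup fun i : ι => i.down.1
  have hW : ¬ Mem p x W := fun h => by
    obtain ⟨i, hi⟩ := exists_mem_of_iSup p _ h
    exact i.down.2 hi
  have key : ∀ V : U.left.Opens, ((V : Set U.left) ∩ (W : Set U.left)ᶜ).Nonempty ↔ Mem p x V := fun V => by
    constructor
    · rintro ⟨z, hz, hzW⟩
      by_contra h
      exact hzW (TopologicalSpace.Opens.mem_iSup.2 ⟨⟨⟨V, h⟩⟩, hz⟩)
    · intro h
      by_contra hn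
      exact hW (mem_mono p h fun z hz => by_contra fun hzW => hn ⟨z, hz, hzW⟩)
  have hirr : IsIrreducible ((W : Set U.left)ᶜ) := by
    refine ⟨?_, fun A B hA hB hA' hB' => ?_⟩
    · obtain ⟨z, -, hz⟩ := (key ⊤).2 (mem_top p x)
      exact ⟨z, hz⟩
    · rw [Set.inter_comm] at hA' hB'
      obtain ⟨z, ⟨hzA, hzB⟩, hzW⟩ := (key (⟨A, hA⟩ ⊓ ⟨B, hB⟩)).2
        (mem_inf p ((key ⟨A, hA⟩).1 hA') ((key ⟨B, hB⟩).1 hB'))
      exact ⟨z, hzW, hzA, hzB⟩
  obtain ⟨c, hc⟩ := QuasiSober.sober hirr W.isOpen.isClosed_compl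
  exact ⟨c, fun V => by rw [← key, Set.inter_comm]; exact hc.mem_open_set_iff V.isOpen⟩

/-- The point of an element of the fibre. -/
noncomputable def pt {U : S.Etale} (x : p.fiber.obj U) : U.left :=
  (exists_pt p x).choose

theorem mem_pt_iff {U : S.Etale} (x : p.fiber.obj U) (V : U.left.Opens) : pt p x ∈ V ↔ Mem p x V :=
  (exists_pt p x).choose_spec V

theorem pt_map {U U' : S.Etale} (g : U' ⟶ U) (x' : p.fiber.obj U') :
    pt p (p.fiber.map g x') = g.left (pt p x') := by
  refine Inseparable.eq (inseparable_iff_forall_isOpen.2 fun O hO => ?_)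
  let V : U.left.Opens := ⟨O, hO⟩
  refine (mem_pt_iff p _ V).trans (Iff.trans ?_ (mem_pt_iff p x' (g.left ⁻¹ᵁ V)).symm)
  constructor
  · rintro ⟨v, hv⟩
    obtain ⟨W, w, f, f', hf, hf', hff⟩ := exists_common_over p g (incl U V) x' v hv.symm
    refine mem_of_map_eq p f w hf _ ?_
    rintro _ ⟨z, rfl⟩
    show g.left (f.left z) ∈ V
    have e : g.left (f.left z) = (incl U V).left (f'.left z) := congrArg (fun q => q.left z) hff
    rw [e]
    exact (f'.left z).2
  · rintro ⟨v, hv⟩
    refine mem_of_map_eq p (incl U' (g.left ⁻¹ᵁ V) ≫ g) v (by rw [map_comp_apply, hv]) _ ?_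
    rintro _ ⟨z, rfl⟩
    exact z.2

/-- An element lifts along a map whose image contains its point. -/
theorem exists_over {U W : S.Etale} (g : W ⟶ U) (x : p.fiber.obj U) (h : pt p x ∈ Set.range g.left) :
    ∃ z, p.fiber.map g z = x := by
  haveI := etale_left g
  let V : U.left.Opens := ⟨Set.range g.left, g.left.isOpenMap.isOpen_range⟩
  obtain ⟨v, hv⟩ := (mem_pt_iff p x V).1 h
  have hc : Sieve.ofArrows (fun _ : PUnit.{u + 1} => W) (fun _ => factor g V subset_rfl) ∈
      S.smallEtaleTopology (sub U V) := by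
    rw [Scheme.ofArrows_mem_smallEtaleTopology_iff]
    refine Set.eq_univ_of_forall fun z => ?_
    obtain ⟨w, hw⟩ : V.ι z ∈ Set.range g.left := z.2
    refine Set.mem_iUnion.2 ⟨⟨⟩, w, V.ι.isOpenEmbedding.injective ?_⟩
    exact (congrArg (fun q => q.left w) (factor_incl g V subset_rfl)).trans hw
  obtain ⟨Y, f, hf, y, hy⟩ := p.jointly_surjective _ hc v
  obtain ⟨_, a, _, ⟨i⟩, rfl⟩ := hf
  refine ⟨p.fiber.map a y, ?_⟩
  rw [map_comp_apply] at hy
  rw [← hv, ← hy, ← map_comp_apply p (factor g V subset_rfl), factor_incl]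

/-- The element of the fibre of the whole scheme. -/
noncomputable def topElt : p.fiber.obj (EtCoh.top S) :=
  haveI := p.isCofiltered
  let j := (IsCofiltered.nonempty (C := p.fiber.Elements)).some
  p.fiber.map (MorphismProperty.Over.homMk j.1.hom (Category.comp_id _)) j.2

/-- The point of the scheme under the point of the site. -/
noncomputable def base : S :=
  pt p (topElt p)

/-- The geometric point attached to the point of the site. -/
noncomputable abbrev gpt : Spec (CommRingCat.of (AlgebraicClosure (S.residueField (base p)))) ⟶ S :=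
  geomPtAlg (base p)

theorem hom_pt {U : S.Etale} (x : p.fiber.obj U) : U.hom (pt p x) = base p := by
  let g : U ⟶ EtCoh.top S := MorphismProperty.Over.homMk U.hom (Category.comp_id _)
  refine (pt_map p g x).symm.trans ?_
  rw [subsingleton_top p (p.fiber.map g x) (topElt p)]
  rfl

theorem finite_lifts_at (U : S.Etale) (u : U.left) :
    {l : (Scheme.pointSmallEtale (gpt p)).fiber.obj U | liftHom (gpt p) l default = u}.Finite := by
  haveI : AlgebraicGeometry.Etale U.hom := U.prop
  haveI := lqf_of_etale U.hom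
  have h := EtaleSplit.finite_gpts_over U.hom (gpt p) {u} ((Set.finite_singleton u).subset fun z hz => hz.1)
  refine Set.Finite.of_finite_image (f := fun l => (⟨liftHom (gpt p) l, liftHom_comp (gpt p) l⟩ :
    EtaleSplit.GPts U.hom (gpt p))) (h.subset ?_) ?_
  · rintro _ ⟨l, hl, rfl⟩
    show EtaleSplit.pt (liftHom (gpt p) l) = u
    rw [EtaleSplit.pt, ← hl]
    exact congrArg _ (Subsingleton.elim _ _)
  · intro l _ l' _ e
    exact Over.OverMorphism.ext (congrArg Subtype.val e)

/-- The system of lifts at the points of the elements. -/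
noncomputable def lifts : p.fiber.Elements ⥤ Type u where
  obj j := {l : (Scheme.pointSmallEtale (gpt p)).fiber.obj j.1 // liftHom (gpt p) l default = pt p j.2}
  map {j j'} k := TypeCat.ofHom fun l => ⟨(Scheme.pointSmallEtale (gpt p)).fiber.map k.1 l.1, by
    rw [liftHom_map, Scheme.Hom.comp_apply, l.2, ← pt_map p k.1 j.2]
    exact congrArg (pt p) k.2⟩
  map_id j := by
    ext l
    exact congrArg (fun q => q l.1) ((Scheme.pointSmallEtale (gpt p)).fiber.map_id j.1)
  map_comp {a b c} k k' := by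
    ext l
    exact congrArg (fun q => q l.1) ((Scheme.pointSmallEtale (gpt p)).fiber.map_comp k.1 k'.1)

theorem sections_nonempty : (lifts p).sections.Nonempty := by
  haveI := p.isCofiltered
  haveI : ∀ j, Finite ((lifts p).obj j) := fun j => (finite_lifts_at p j.1 (pt p j.2)).to_subtype
  haveI : ∀ j, Nonempty ((lifts p).obj j) := fun j => by
    obtain ⟨l, hl⟩ := Scheme.pointSmallEtaleFiberObjToPreimage_surjective (gpt p) (geomPtAlg_default (base p)) j.1
      ⟨pt p j.2, hom_pt p j.2⟩
    exact ⟨⟨l, congrArg Subtype.val hl⟩⟩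
  exact nonempty_sections_of_finite_cofiltered_system _

/-- The lift of an element of the fibre. -/
noncomputable def eta {U : S.Etale} (x : p.fiber.obj U) : (Scheme.pointSmallEtale (gpt p)).fiber.obj U :=
  ((sections_nonempty p).choose (p.fiber.elementsMk U x)).1

theorem eta_point {U : S.Etale} (x : p.fiber.obj U) : liftHom (gpt p) (eta p x) default = pt p x :=
  ((sections_nonempty p).choose (p.fiber.elementsMk U x)).2

theorem eta_map {U U' : S.Etale} (g : U' ⟶ U) (x' : p.fiber.obj U') :
    eta p (p.fiber.map g x') = (Scheme.pointSmallEtale (gpt p)).fiber.map g (eta p x') :=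
  (congrArg Subtype.val ((sections_nonempty p).choose_spec
    (⟨g, rfl⟩ : p.fiber.elementsMk U' x' ⟶ p.fiber.elementsMk U (p.fiber.map g x')))).symm

/-- The fibre product over a third object. -/
noncomputable def prodOver {U W : S.Etale} (g : W ⟶ U) : S.Etale :=
  haveI : AlgebraicGeometry.Etale W.hom := W.prop
  haveI := etale_left g
  haveI : AlgebraicGeometry.Etale (pullback.fst g.left g.left ≫ W.hom) := inferInstance
  Scheme.Etale.mk (pullback.fst g.left g.left ≫ W.hom)

/-- The first projection. -/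
noncomputable def pr1 {U W : S.Etale} (g : W ⟶ U) : prodOver g ⟶ W :=
  MorphismProperty.Over.homMk (pullback.fst g.left g.left) rfl

/-- The second projection. -/
noncomputable def pr2 {U W : S.Etale} (g : W ⟶ U) : prodOver g ⟶ W :=
  MorphismProperty.Over.homMk (pullback.snd g.left g.left) (by
    show pullback.snd g.left g.left ≫ W.hom = pullback.fst g.left g.left ≫ W.hom
    rw [← MorphismProperty.Over.w g, pullback.condition_assoc])

/-- The diagonal. -/
noncomputable def diag {U W : S.Etale} (g : W ⟶ U) : W ⟶ prodOver g :=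
  MorphismProperty.Over.homMk (pullback.diagonal g.left) (by
    show pullback.diagonal g.left ≫ pullback.fst g.left g.left ≫ W.hom = W.hom
    rw [pullback.diagonal_fst_assoc])

theorem diag_pr1 {U W : S.Etale} (g : W ⟶ U) : diag g ≫ pr1 g = 𝟙 W :=
  MorphismProperty.Over.Hom.ext (pullback.diagonal_fst g.left)

theorem diag_pr2 {U W : S.Etale} (g : W ⟶ U) : diag g ≫ pr2 g = 𝟙 W :=
  MorphismProperty.Over.Hom.ext (pullback.diagonal_snd g.left)

variable {Ω : Type u} [Field Ω] [IsSepClosed Ω] (ξ : Spec (CommRingCat.of Ω) ⟶ S)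

theorem map_pr1_eq_pr2 {U W : S.Etale} (g : W ⟶ U) (l : (Scheme.pointSmallEtale ξ).fiber.obj (prodOver g)) :
    (Scheme.pointSmallEtale ξ).fiber.map g ((Scheme.pointSmallEtale ξ).fiber.map (pr1 g) l) =
      (Scheme.pointSmallEtale ξ).fiber.map g ((Scheme.pointSmallEtale ξ).fiber.map (pr2 g) l) :=
  Over.OverMorphism.ext (by
    show (liftHom ξ l ≫ pullback.fst g.left g.left) ≫ g.left = (liftHom ξ l ≫ pullback.snd g.left g.left) ≫ g.left
    rw [Category.assoc, pullback.condition, Category.assoc])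

theorem pr1_eq_pr2_iff {U W : S.Etale} (g : W ⟶ U) (l : (Scheme.pointSmallEtale ξ).fiber.obj (prodOver g)) :
    (Scheme.pointSmallEtale ξ).fiber.map (pr1 g) l = (Scheme.pointSmallEtale ξ).fiber.map (pr2 g) l ↔
      liftHom ξ l default ∈ Set.range (diag g).left := by
  constructor
  · intro e
    let m := liftHom ξ ((Scheme.pointSmallEtale ξ).fiber.map (pr1 g) l)
    have h : liftHom ξ l = m ≫ pullback.diagonal g.left := by
      apply pullback.hom_ext
      · rw [Category.assoc, pullback.diagonal_fst]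
        exact (Category.comp_id _).symm
      · rw [Category.assoc, pullback.diagonal_snd]
        exact (congrArg (liftHom ξ) e).symm.trans (Category.comp_id _).symm
    exact ⟨m default, (Scheme.Hom.comp_apply _ _ _).symm.trans (congrArg (fun q => q default) h.symm)⟩
  · rintro ⟨w, hw⟩
    obtain ⟨a, rfl⟩ := exists_fiber_map_eq ξ (diag g) l w hw
    apply Over.OverMorphism.ext
    show liftHom ξ ((Scheme.pointSmallEtale ξ).fiber.map (diag g) a) ≫ pullback.fst g.left g.left =
      liftHom ξ ((Scheme.pointSmallEtale ξ).fiber.map (diag g) a) ≫ pullback.snd g.left g.left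
    rw [liftHom_map]
    show (liftHom ξ a ≫ pullback.diagonal g.left) ≫ _ = (liftHom ξ a ≫ pullback.diagonal g.left) ≫ _
    rw [Category.assoc, pullback.diagonal_fst, Category.assoc, pullback.diagonal_snd]

theorem eta_injective {U : S.Etale} : Function.Injective (eta p (U := U)) := by
  intro x y e
  let g : U ⟶ EtCoh.top S := MorphismProperty.Over.homMk U.hom (Category.comp_id _)
  obtain ⟨W, w, a, b, ha, hb⟩ := exists_common p x y
  let c : W ⟶ prodOver g := MorphismProperty.Over.homMk
    (pullback.lift a.left b.left (by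
      show a.left ≫ U.hom = b.left ≫ U.hom
      rw [MorphismProperty.Over.w a, MorphismProperty.Over.w b]))
    (by
      show pullback.lift _ _ _ ≫ pullback.fst g.left g.left ≫ U.hom = W.hom
      rw [pullback.lift_fst_assoc]; exact MorphismProperty.Over.w a)
  have h1 : c ≫ pr1 g = a := MorphismProperty.Over.Hom.ext (pullback.lift_fst _ _ _)
  have h2 : c ≫ pr2 g = b := MorphismProperty.Over.Hom.ext (pullback.lift_snd _ _ _)
  have hx : p.fiber.map (pr1 g) (p.fiber.map c w) = x := by rw [← map_comp_apply, h1, ha]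
  have hy : p.fiber.map (pr2 g) (p.fiber.map c w) = y := by rw [← map_comp_apply, h2, hb]
  have hd : pt p (p.fiber.map c w) ∈ Set.range (diag g).left := by
    rw [← eta_point]
    refine (pr1_eq_pr2_iff (gpt p) g _).1 ?_
    rw [← eta_map, ← eta_map, hx, hy, e]
  obtain ⟨v, hv⟩ := exists_over p (diag g) _ hd
  have hvx : v = x := by
    rw [← hx, ← hv, ← map_comp_apply, diag_pr1, CategoryTheory.Functor.map_id]; rfl
  have hvy : v = y := by
    rw [← hy, ← hv, ← map_comp_apply, diag_pr2, CategoryTheory.Functor.map_id]; rfl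
  exact hvx.symm.trans hvy

theorem exists_over_eta : ∀ (n : ℕ) (U W : S.Etale) (g : W ⟶ U) (_ : IsSeparated g.left) (x : p.fiber.obj U)
    (_ : {m | (Scheme.pointSmallEtale (gpt p)).fiber.map g m = eta p x}.Finite)
    (_ : {m | (Scheme.pointSmallEtale (gpt p)).fiber.map g m = eta p x}.ncard ≤ n)
    (m : (Scheme.pointSmallEtale (gpt p)).fiber.obj W)
    (_ : (Scheme.pointSmallEtale (gpt p)).fiber.map g m = eta p x),
    ∃ z, p.fiber.map g z = x ∧ eta p z = m := by
  intro n
  induction n with
  | zero =>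
    intro U W g _ x hfin hn m hm
    exact absurd ((Set.ncard_eq_zero hfin).1 (Nat.le_zero.1 hn)) (Set.nonempty_iff_ne_empty.1 ⟨m, hm⟩)
  | succ n ih =>
    intro U W g hsep x hfin hn m hm
    obtain ⟨z₀, hz₀⟩ := exists_over p g x ⟨liftHom (gpt p) m default, by
      rw [← eta_point, ← hm, liftHom_map, Scheme.Hom.comp_apply]⟩
    by_cases he : eta p z₀ = m
    · exact ⟨z₀, hz₀, he⟩
    haveI := hsep
    let O : (prodOver g).left.Opens :=
      ⟨(Set.range (diag g).left)ᶜ, (pullback.diagonal g.left).isClosedEmbedding.isClosed_range.isOpen_compl⟩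
    let g₂ : sub (prodOver g) O ⟶ W := incl (prodOver g) O ≫ pr1 g
    have hz₀' : (Scheme.pointSmallEtale (gpt p)).fiber.map g (eta p z₀) = eta p x := by rw [← eta_map, hz₀]
    have hcomp : ∀ l : (Scheme.pointSmallEtale (gpt p)).fiber.obj (sub (prodOver g) O),
        (Scheme.pointSmallEtale (gpt p)).fiber.map g₂ l = (Scheme.pointSmallEtale (gpt p)).fiber.map (pr1 g)
          ((Scheme.pointSmallEtale (gpt p)).fiber.map (incl (prodOver g) O) l) := fun l => by
      simp only [g₂, Functor.map_comp]; rfl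
    have hoff : ∀ l : (Scheme.pointSmallEtale (gpt p)).fiber.obj (sub (prodOver g) O),
        (Scheme.pointSmallEtale (gpt p)).fiber.map (pr1 g) ((Scheme.pointSmallEtale (gpt p)).fiber.map (incl (prodOver g) O) l) ≠
          (Scheme.pointSmallEtale (gpt p)).fiber.map (pr2 g) ((Scheme.pointSmallEtale (gpt p)).fiber.map (incl (prodOver g) O) l) := fun l h => by
      have h' := (pr1_eq_pr2_iff (gpt p) g _).1 h
      rw [liftHom_map, Scheme.Hom.comp_apply] at h'
      exact (liftHom (gpt p) l default).2 h'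
    let ψ := fun l : (Scheme.pointSmallEtale (gpt p)).fiber.obj (sub (prodOver g) O) =>
      (Scheme.pointSmallEtale (gpt p)).fiber.map (pr2 g) ((Scheme.pointSmallEtale (gpt p)).fiber.map (incl (prodOver g) O) l)
    let A := {l | (Scheme.pointSmallEtale (gpt p)).fiber.map g₂ l = eta p z₀}
    have hψ : Set.MapsTo ψ A ({m | (Scheme.pointSmallEtale (gpt p)).fiber.map g m = eta p x} \ {eta p z₀}) := by
      intro l hl
      refine ⟨?_, fun h => hoff l (((hcomp l).symm.trans hl).trans h.symm)⟩
      show (Scheme.pointSmallEtale (gpt p)).fiber.map g (ψ l) = eta p x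
      rw [← map_pr1_eq_pr2, ← hcomp, show _ = eta p z₀ from hl, hz₀']
    have hψi : Set.InjOn ψ A := fun l hl l' hl' e => Over.OverMorphism.ext (by
      have e₁ : liftHom (gpt p) l ≫ O.ι ≫ pullback.fst g.left g.left = liftHom (gpt p) l' ≫ O.ι ≫ pullback.fst g.left g.left :=
        congrArg (liftHom (gpt p)) ((show _ = eta p z₀ from hl).trans (show _ = eta p z₀ from hl').symm)
      have e₂ : (liftHom (gpt p) l ≫ O.ι) ≫ pullback.snd g.left g.left = (liftHom (gpt p) l' ≫ O.ι) ≫ pullback.snd g.left g.left :=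
        congrArg (liftHom (gpt p)) e
      exact (cancel_mono O.ι).1 (pullback.hom_ext ((Category.assoc _ _ _).trans (e₁.trans (Category.assoc _ _ _).symm)) e₂))
    have hA : A.Finite := Set.Finite.of_injOn hψ hψi (hfin.sdiff)
    have hAn : A.ncard ≤ n := by
      refine (Set.ncard_le_ncard_of_injOn ψ hψ hψi (hfin.sdiff)).trans ?_
      have := Set.ncard_diff_singleton_add_one
        (show eta p z₀ ∈ {m | (Scheme.pointSmallEtale (gpt p)).fiber.map g m = eta p x} from hz₀') hfin
      omega
    haveI : IsSeparated g₂.left := by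
      show IsSeparated (O.ι ≫ pullback.fst g.left g.left)
      infer_instance
    let n₀ : (Scheme.pointSmallEtale (gpt p)).fiber.obj (prodOver g) :=
      Over.homMk (pullback.lift (liftHom (gpt p) (eta p z₀)) (liftHom (gpt p) m)
        (congrArg (liftHom (gpt p)) (hz₀'.trans hm.symm))) (by
          show pullback.lift _ _ _ ≫ pullback.fst g.left g.left ≫ W.hom = gpt p
          rw [pullback.lift_fst_assoc]; exact liftHom_comp _ _)
    have hn1 : (Scheme.pointSmallEtale (gpt p)).fiber.map (pr1 g) n₀ = eta p z₀ :=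
      Over.OverMorphism.ext (pullback.lift_fst _ _ _)
    have hn2 : (Scheme.pointSmallEtale (gpt p)).fiber.map (pr2 g) n₀ = m :=
      Over.OverMorphism.ext (pullback.lift_snd _ _ _)
    have hn0 : liftHom (gpt p) n₀ default ∈ O := fun h => he (by rw [← hn1, ← hn2]; exact (pr1_eq_pr2_iff (gpt p) g n₀).2 h)
    obtain ⟨l₂, hl₂⟩ := exists_fiber_map_eq (gpt p) (incl (prodOver g) O) n₀ (⟨_, hn0⟩ : O.toScheme) rfl
    obtain ⟨z₂, hz₂, hz₂'⟩ := ih W (sub (prodOver g) O) g₂ inferInstance z₀ hA hAn l₂
      (by rw [hcomp, hl₂, hn1])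
    refine ⟨p.fiber.map (pr2 g) (p.fiber.map (incl (prodOver g) O) z₂), ?_, ?_⟩
    · refine eta_injective p ?_
      rw [eta_map, eta_map, eta_map, hz₂', ← map_pr1_eq_pr2, hl₂, hn1, hz₀']
    · rw [eta_map, eta_map, hz₂', hl₂, hn2]

theorem exists_open_fibre {U : S.Etale} (u : U.left) :
    ∃ O : U.left.Opens, IsAffineOpen O ∧ u ∈ O ∧ ∀ z ∈ O, U.hom z = U.hom u → z = u := by
  haveI : AlgebraicGeometry.Etale U.hom := U.prop
  haveI := lqf_of_etale U.hom
  haveI : DiscreteTopology ↥(U.hom ⁻¹' {U.hom u}) := (U.hom.isDiscrete_preimage_singleton (U.hom u)).to_subtype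
  obtain ⟨N, hN, hN'⟩ := isOpen_induced_iff.1 (isOpen_discrete ({⟨u, rfl⟩} : Set ↥(U.hom ⁻¹' {U.hom u})))
  have hu : u ∈ N := by
    have : (⟨u, rfl⟩ : ↥(U.hom ⁻¹' {U.hom u})) ∈ Subtype.val ⁻¹' N := hN'.symm ▸ rfl
    exact this
  obtain ⟨O, hO, huO, hON⟩ := exists_isAffineOpen_mem_and_subset (show u ∈ (⟨N, hN⟩ : U.left.Opens) from hu)
  refine ⟨O, hO, huO, fun z hz e => ?_⟩
  have : (⟨z, e⟩ : ↥(U.hom ⁻¹' {U.hom u})) ∈ ({⟨u, rfl⟩} : Set _) := hN' ▸ hON hz
  exact congrArg Subtype.val this

theorem eta_surjective (U : S.Etale) : Function.Surjective (eta p (U := U)) := by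
  intro m
  haveI : AlgebraicGeometry.Etale U.hom := U.prop
  obtain ⟨O, hO, huO, huniq⟩ := exists_open_fibre (liftHom (gpt p) m default)
  obtain ⟨m', hm'⟩ := exists_fiber_map_eq (gpt p) (incl U O) m (⟨_, huO⟩ : O.toScheme) rfl
  let g : sub U O ⟶ EtCoh.top S := MorphismProperty.Over.homMk (sub U O).hom (Category.comp_id _)
  haveI : IsAffine (sub U O).left := hO
  have hsep : IsSeparated g.left :=
    IsSeparated.of_comp g.left (terminal.from S)
  have hall : ∀ l : (Scheme.pointSmallEtale (gpt p)).fiber.obj (sub U O),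
      (Scheme.pointSmallEtale (gpt p)).fiber.map g l = eta p (topElt p) := fun l => Over.OverMorphism.ext (by
    have h := Over.w (eta p (topElt p))
    rw [show (Over.mk (gpt p)).hom = gpt p from rfl] at h
    exact (liftHom_comp (gpt p) l).trans (h.symm.trans (Category.comp_id _)))
  have hub : U.hom (liftHom (gpt p) m default) = base p :=
    (Scheme.Hom.comp_apply _ _ _).symm.trans
      ((congrArg (fun q => q default) (liftHom_comp (gpt p) m)).trans (geomPtAlg_default _))
  have hfin : {l | (Scheme.pointSmallEtale (gpt p)).fiber.map g l = eta p (topElt p)}.Finite := by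
    refine (finite_lifts_at p (sub U O) (⟨_, huO⟩ : O.toScheme)).subset fun l _ => ?_
    refine O.ι.isOpenEmbedding.injective (huniq _ (liftHom (gpt p) l default).2 ?_)
    rw [hub]
    refine (congrArg (fun q => q default) (liftHom_comp (gpt p) l)).trans ?_
    exact geomPtAlg_default _
  obtain ⟨z, -, hz⟩ := exists_over_eta p _ _ _ g hsep (topElt p) hfin le_rfl m' (hall m')
  exact ⟨p.fiber.map (incl U O) z, by rw [eta_map, hz, hm']⟩

/-- Every point of the small étale site is given by a geometric point. -/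
noncomputable def fiberIso : p.fiber ≅ (Scheme.pointSmallEtale (gpt p)).fiber :=
  NatIso.ofComponents (fun U => (Equiv.ofBijective (eta p (U := U)) ⟨eta_injective p, eta_surjective p U⟩).toIso)
    (fun {U U'} g => by
      ext x
      exact eta_map p g x)

end Groth.Agent.EtPointClass
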